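import Groth.Agent.Lib.FibreDimAt6.Flat
import Groth.Agent.Lib.FibreDimAt6.ZeroDim
import Groth.Agent.Lib.FibreBC.Basic
import Groth.Agent.Lib.RedSub.Basic

/-!
# The dimension of the closure of a family of sections in the fibres
-/

set_option autoImplicit false
set_option backward.isDefEq.respectTransparency false
universe u

open CategoryTheory Limits AlgebraicGeometry TopologicalSpace

noncomputable section

namespace GrothLib.SecDim14

open GrothLib.FibreDimAt6

variable {X S : Scheme.{u}}

/-- Over a valuation ring, the special fibre of a reduced scheme with dense generic fibre has at most the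
dimension of the generic fibre. -/
theorem dim_special_le_generic_of_dense {W : CommRingCat.{u}} [IsDomain W] [ValuationRing W]
    (f : X ⟶ Spec W) [LocallyOfFiniteType f] [IsReduced X]
    (hd : Dense (f ⁻¹' {GrothLib.HTop.gen W})) :
    topologicalKrullDim ↥(f.fiber (GrothLib.HTop.closed W)) ≤
      topologicalKrullDim ↥(f.fiber (GrothLib.HTop.gen W)) := by
  refine (dim_fiber_le_iff f _ _).mpr fun x hx => ?_
  obtain ⟨_, ⟨(U : X.Opens), hU, rfl⟩, hxU, -⟩ := X.isBasis_affineOpens.exists_subset_of_mem_open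
    (Set.mem_univ x) isOpen_univ
  refine le_trans (fibreDimAt_le_of_open f x U hxU) ?_
  obtain ⟨φ, hφ⟩ := Spec.map_surjective (hU.fromSpec ≫ f)
  letI : Algebra W Γ(X, U) := φ.hom.toAlgebra
  have hsq : hU.fromSpec ≫ f = Spec.map (CommRingCat.ofHom (algebraMap W Γ(X, U))) ≫ 𝟙 _ := by
    rw [Category.comp_id, ← hφ]
    rfl
  haveI : Algebra.FiniteType W Γ(X, U) := by
    have : LocallyOfFiniteType (Spec.map φ) := hφ ▸ inferInstance
    exact (HasRingHomProperty.Spec_iff (P := @LocallyOfFiniteType)).mp this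
  have htf : ∀ c : W, c ≠ 0 → ∀ a : Γ(X, U), c • a = 0 → a = 0 := by
    intro c hc a h0
    have hd' : Dense (hU.fromSpec ⁻¹' (f ⁻¹' {GrothLib.HTop.gen W})) :=
      hd.preimage hU.fromSpec.isOpenEmbedding.isOpenMap
    have hsub : (hU.fromSpec ⁻¹' (f ⁻¹' {GrothLib.HTop.gen W})) ⊆
        PrimeSpectrum.zeroLocus {a} := by
      intro p hp
      change PrimeSpectrum Γ(X, U) at p
      have hp' : (Spec.map φ) p = GrothLib.HTop.gen W := by
        have : (hU.fromSpec ≫ f) p = GrothLib.HTop.gen W := hp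
        rwa [← hφ] at this
      have hcp : φ.hom c ∉ p.asIdeal := fun hmem => hc (by
        have h1 : c ∈ ((Spec.map φ) p).asIdeal := hmem
        rw [hp'] at h1
        simpa [GrothLib.HTop.gen] using h1)
      refine (PrimeSpectrum.mem_zeroLocus p _).2 (Set.singleton_subset_iff.2 ?_)
      show a ∈ p.asIdeal
      refine (p.isPrime.mem_or_mem ?_).resolve_left hcp
      have : φ.hom c * a = 0 := h0
      rw [this]
      exact zero_mem _
    have hall : PrimeSpectrum.zeroLocus ({a} : Set Γ(X, U)) = Set.univ :=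
      Set.eq_univ_of_univ_subset ((PrimeSpectrum.isClosed_zeroLocus _).closure_subset_iff.2 hsub |>.trans'
        (Set.univ_subset_iff.2 hd'.closure_eq))
    have hnil : IsNilpotent a := by
      rw [← mem_nilradical, nilradical_eq_sInf, Ideal.mem_sInf]
      intro p hp
      have : (⟨p, hp⟩ : PrimeSpectrum Γ(X, U)) ∈ PrimeSpectrum.zeroLocus ({a} : Set Γ(X, U)) := by
        rw [hall]; trivial
      simpa [PrimeSpectrum.mem_zeroLocus] using this
    haveI : _root_.IsReduced Γ(X, U) := inferInstance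
    exact hnil.eq_zero
  have h1 := dim_trace f hU.fromSpec (𝟙 _) hsq (IsLocalRing.closedPoint W)
  have h2 := dim_trace f hU.fromSpec (𝟙 _) hsq ⟨⊥, Ideal.isPrime_bot⟩
  rw [hU.range_fromSpec] at h1 h2
  rw [hx]
  refine le_trans h1.le (le_trans ?_ (le_trans h2.ge ?_))
  · rw [← fiber_closed_eq, ← fiber_generic_eq]
    exact dim_special_le_generic W Γ(X, U) (FractionRing W) htf
  · rw [← dim_inter_fiber_eq f _ U]
    exact topologicalKrullDim_subspace_le _ _

/-- The reduced subscheme structure on a closed set. -/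
abbrev red (C : Closeds X) : Scheme.{u} := (Scheme.IdealSheafData.vanishingIdeal C).subscheme

abbrev redι (C : Closeds X) : red C ⟶ X := (Scheme.IdealSheafData.vanishingIdeal C).subschemeι

theorem range_redι (C : Closeds X) : Set.range (redι C) = C := by
  rw [Scheme.IdealSheafData.range_subschemeι, Scheme.IdealSheafData.coe_support_vanishingIdeal]

/-- The dimension of a fibre of a closed immersion followed by a morphism. -/
theorem dim_fiber_comp_isClosedImmersion {Z : Scheme.{u}} (j : Z ⟶ X) [IsClosedImmersion j] (f : X ⟶ S) (s : S) :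
    topologicalKrullDim ↥((j ≫ f).fiber s) = topologicalKrullDim ↥(f ⁻¹' {s} ∩ Set.range j) := by
  rw [← dim_preimage_eq]
  refine GrothLib.Dim.IsEmbedding.topologicalKrullDim_eq (f := fun z : (j ≫ f) ⁻¹' {s} => j z.1)
    (j.isClosedEmbedding.isEmbedding.comp Topology.IsEmbedding.subtypeVal) ?_
  ext x
  constructor
  · rintro ⟨⟨z, hz⟩, rfl⟩
    exact ⟨hz, z, rfl⟩
  · rintro ⟨hx, z, rfl⟩
    exact ⟨⟨z, hx⟩, rfl⟩

/-- Dimension of fibres of closed sets under base change. -/
theorem dim_preimage_inter_fiber {X' S' : Scheme.{u}} {f : X ⟶ S} [LocallyOfFiniteType f] {g : S' ⟶ S}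
    {f' : X' ⟶ S'} {p : X' ⟶ X} (hc : IsPullback p f' f g) (C : Closeds X) (t : S') :
    topologicalKrullDim ↥(f' ⁻¹' {t} ∩ p ⁻¹' (C : Set X)) =
      topologicalKrullDim ↥(f ⁻¹' {g t} ∩ (C : Set X)) := by
  let j := pullback.snd (redι C) p
  have hsq : IsPullback (pullback.fst (redι C) p) (j ≫ f') (redι C ≫ f) g :=
    (IsPullback.of_hasPullback (redι C) p).paste_vert hc
  haveI : IsClosedImmersion j := MorphismProperty.pullback_snd _ _ inferInstance
  have hj : Set.range j = p ⁻¹' (C : Set X) := by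
    rw [Scheme.Pullback.range_snd, range_redι]
  rw [← hj, ← dim_fiber_comp_isClosedImmersion j f' t, GrothLib.FibreBC.topologicalKrullDim_fiber hsq t,
    dim_fiber_comp_isClosedImmersion, range_redι]

/-- Dimensions of subspaces are monotone. -/
theorem dim_mono {T : Type u} [TopologicalSpace T] {A B : Set T} (h : A ⊆ B) :
    topologicalKrullDim ↥A ≤ topologicalKrullDim ↥B :=
  (Topology.IsEmbedding.inclusion h).isInducing.topologicalKrullDim_le

/-- **The closures of a family of sections in the fibres: dimension can only grow under generization.** -/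
theorem dim_closure_sections_le {Y : Scheme.{u}} (f : Y ⟶ S) [LocallyOfFiniteType f]
    {ι : Type u} (a : ι → (S ⟶ Y)) (ha : ∀ i, a i ≫ f = 𝟙 S) {s₀ s₁ : S} (h : s₁ ⤳ s₀) :
    topologicalKrullDim ↥(f ⁻¹' {s₀} ∩ closure (Set.range fun i => a i s₀)) ≤
      topologicalKrullDim ↥(f ⁻¹' {s₁} ∩ closure (Set.range fun i => a i s₁)) := by
  obtain ⟨W, _, _, g, hη, h0⟩ := GrothLib.HTop.exists_valuationRing_map h
  let Y' := pullback f g
  let f' : Y' ⟶ Spec W := pullback.snd f g
  let p : Y' ⟶ Y := pullback.fst f g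
  let a' : ι → (Spec W ⟶ Y') := fun i => pullback.lift (g ≫ a i) (𝟙 _) (by simp [ha i])
  have ha' : ∀ i, a' i ≫ f' = 𝟙 _ := fun i => pullback.lift_snd _ _ _
  have hap : ∀ i t, p (a' i t) = a i (g t) := fun i t => by
    rw [← Scheme.Hom.comp_apply, pullback.lift_fst, Scheme.Hom.comp_apply]
  haveI : LocallyOfFiniteType f' := MorphismProperty.pullback_snd f g inferInstance
  let C₁ : Closeds Y := ⟨closure (Set.range fun i => a i s₁), isClosed_closure⟩
  let C₀ : Closeds Y := ⟨closure (Set.range fun i => a i s₀), isClosed_closure⟩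
  let E : Closeds Y' := ⟨closure (Set.range fun i => a' i (GrothLib.HTop.gen W)), isClosed_closure⟩
  haveI : IsReduced (red E) := GrothLib.RedSub.isReduced_subscheme_vanishingIdeal E
  -- the generic fibre of the closure
  have hE1 : (E : Set Y') ⊆ p ⁻¹' (C₁ : Set Y) :=
    closure_minimal (Set.range_subset_iff.2 fun i => by
      show p (a' i _) ∈ closure _
      rw [hap, hη]
      exact subset_closure ⟨i, rfl⟩) (C₁.2.preimage p.continuous)
  have hdense : Dense ((redι E ≫ f') ⁻¹' {GrothLib.HTop.gen W}) := by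
    intro z
    rw [(redι E).isClosedEmbedding.isEmbedding.isInducing.closure_eq_preimage_closure_image]
    have hz : redι E z ∈ (E : Set Y') := range_redι E ▸ ⟨z, rfl⟩
    refine closure_mono ?_ hz
    rintro _ ⟨i, rfl⟩
    have hm : a' i (GrothLib.HTop.gen W) ∈ Set.range (redι E) := by
      rw [range_redι]; exact subset_closure ⟨i, rfl⟩
    obtain ⟨w, hw⟩ := hm
    refine ⟨w, ?_, hw⟩
    show f' (redι E w) = _
    rw [hw, ← Scheme.Hom.comp_apply, ha' i]
    rfl
  have key := dim_special_le_generic_of_dense (redι E ≫ f') hdense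
  rw [dim_fiber_comp_isClosedImmersion, dim_fiber_comp_isClosedImmersion, range_redι] at key
  -- the special fibre of the closure
  have hE0 : f' ⁻¹' {GrothLib.HTop.closed W} ∩ p ⁻¹' (C₀ : Set Y) ⊆ (E : Set Y') := by
    rintro y ⟨hy, hy0⟩
    refine mem_closure_iff.2 fun O hO hyO => ?_
    obtain ⟨e, he, hec⟩ := GrothLib.FibreBC.exists_isPullback_fiber (IsPullback.of_hasPullback f g)
      (GrothLib.HTop.closed W)
    haveI : UniversallyOpen (Spec.map (g.residueFieldMap (GrothLib.HTop.closed W))) := inferInstance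
    haveI : UniversallyOpen e := MorphismProperty.of_isPullback hec.flip inferInstance
    obtain ⟨z, hz⟩ := (f'.range_fiberι (GrothLib.HTop.closed W)).superset hy
    have himg : IsOpen (e '' ((f'.fiberι (GrothLib.HTop.closed W)) ⁻¹' O)) :=
      e.isOpenMap _ (hO.preimage (f'.fiberι _).continuous)
    obtain ⟨O₂, hO₂, hO₂e⟩ := (f.fiberι (g (GrothLib.HTop.closed W))).isEmbedding.isInducing.isOpen_iff.1 himg
    have hpy : p y ∈ O₂ := by
      have hmem : e z ∈ (f.fiberι (g (GrothLib.HTop.closed W))) ⁻¹' O₂ := by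
        rw [hO₂e]; exact ⟨z, by simpa [hz] using hyO, rfl⟩
      rw [Set.mem_preimage, ← Scheme.Hom.comp_apply, he, Scheme.Hom.comp_apply, hz] at hmem
      exact hmem
    obtain ⟨_, hq, i, rfl⟩ := mem_closure_iff.1 hy0 O₂ hO₂ hpy
    have hfa : f (a i s₀) = g (GrothLib.HTop.closed W) := by
      rw [← Scheme.Hom.comp_apply, ha i, h0]; rfl
    obtain ⟨w, hw⟩ := (f.range_fiberι (g (GrothLib.HTop.closed W))).superset hfa
    have hmem : w ∈ e '' ((f'.fiberι (GrothLib.HTop.closed W)) ⁻¹' O) := by
      rw [← hO₂e, Set.mem_preimage, hw]; exact hq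
    obtain ⟨z', hz', rfl⟩ := hmem
    have hy' : p (f'.fiberι (GrothLib.HTop.closed W) z') = a i (g (GrothLib.HTop.closed W)) := by
      rw [← Scheme.Hom.comp_apply, ← he, Scheme.Hom.comp_apply, hw, h0]
    -- the only point over `a i s₀` in the special fibre is the value of the section
    have hsec : IsPullback (a' i) g p (a i) := by
      refine (IsPullback.of_bot ?_ ?_ (IsPullback.of_hasPullback f g)).flip
      · rw [ha' i, ha i]
        exact IsPullback.of_vert_isIso ⟨by simp⟩
      · exact (pullback.lift_fst _ _ _).symm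
    obtain ⟨t, ht1, -⟩ := Scheme.exists_preimage_of_isPullback hsec
      (f'.fiberι (GrothLib.HTop.closed W) z') (g (GrothLib.HTop.closed W)) hy'
    have ht : t = GrothLib.HTop.closed W := by
      have h1 : f' (a' i t) = t := by rw [← Scheme.Hom.comp_apply, ha' i]; rfl
      rw [ht1] at h1
      rw [← h1]
      exact (f'.range_fiberι (GrothLib.HTop.closed W)).subset ⟨z', rfl⟩
    refine ⟨a' i (GrothLib.HTop.gen W), ?_, i, rfl⟩
    have hsp : a' i (GrothLib.HTop.gen W) ⤳ a' i (GrothLib.HTop.closed W) :=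
      (IsLocalRing.specializes_closedPoint (R := W) _).map (a' i).continuous
    exact hsp.mem_open hO (ht ▸ ht1 ▸ hz')
  calc topologicalKrullDim ↥(f ⁻¹' {s₀} ∩ (C₀ : Set Y))
      = topologicalKrullDim ↥(f' ⁻¹' {GrothLib.HTop.closed W} ∩ p ⁻¹' (C₀ : Set Y)) := by
        rw [dim_preimage_inter_fiber (IsPullback.of_hasPullback f g), h0]
    _ ≤ topologicalKrullDim ↥(f' ⁻¹' {GrothLib.HTop.closed W} ∩ (E : Set Y')) :=
        dim_mono fun y hy => ⟨hy.1, hE0 hy⟩
    _ ≤ topologicalKrullDim ↥(f' ⁻¹' {GrothLib.HTop.gen W} ∩ (E : Set Y')) := key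
    _ ≤ topologicalKrullDim ↥(f' ⁻¹' {GrothLib.HTop.gen W} ∩ p ⁻¹' (C₁ : Set Y)) :=
        dim_mono fun y hy => ⟨hy.1, hE1 hy.2⟩
    _ = topologicalKrullDim ↥(f ⁻¹' {s₁} ∩ (C₁ : Set Y)) := by
        rw [dim_preimage_inter_fiber (IsPullback.of_hasPullback f g), hη]

end GrothLib.SecDim14
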